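import Groth.Prelude
import Groth.Agent.H16Derived.RelTensor.Perfect
import Groth.Agent.H16Derived.PnD.Unit
import Groth.Agent.H16Derived.QCohD.Rpush
import Groth.Agent.H16Derived.QCohD.Equiv
import Groth.Agent.H16Derived.KFlat.PerfTilde
import Groth.Agent.H25FM.Calc
import Groth.Agent.H25FM.ProjT
import Groth.Agent.H4DR.PCoh.Modules
import Groth.Agent.H4DR.TorAmp.Perfect
import Groth.Agent.LeadBC.GenBC.Top
import Groth.Agent.H10Coh.TildeExact

/-!
# Cohomology of flat finitely presented modules with proper support over a coherent ring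
-/

set_option autoImplicit false
set_option linter.style.haveILetI false
set_option backward.isDefEq.respectTransparency false

universe u

open CategoryTheory CategoryTheory.Limits AlgebraicGeometry Opposite TopologicalSpace
open scoped TensorProduct

attribute [local instance] HasDerivedCategory.standard

noncomputable section

namespace Groth.Agent.H7CohFP

open Groth.Agent.H16Derived Groth.Agent.H16Derived.KFlat.Stalk

/-- `Rf_* G` is perfect. -/
theorem isPerfect_rpush_single {X S : Scheme.{u}} (f : X ⟶ S) [LocallyOfFinitePresentation f] [QuasiCompact f]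
    [QuasiSeparated f] [DCoh.HasRpush f] {G : X.Modules} (hG : CohB1.IsFP G)
    (hflat : FlatMod.IsFlatOver f G) (hsupp : ClSub.IsProperOver f (CohB1.support G)) :
    DCoh.IsPerfect ((DCoh.Rpush f).obj (DCoh.inD X G)) := by
  haveI : DCoh.HasLTensorMod G := H16Derived.KFlat.Stalk.hasLTensorMod G
  haveI : DCoh.HasLTensorMod (Coh.structureModule X) := H16Derived.KFlat.Stalk.hasLTensorMod _
  obtain ⟨a⟩ := ProperSupp.nonempty_ltensorMod_iso (DCoh.inD X (Coh.structureModule X)) G
  obtain ⟨b⟩ := H25FM.nonempty_T_inD (M := Coh.structureModule X) (H25FM.isFlat_structure X)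
  obtain ⟨c⟩ := H25FM.nonempty_ltensorMod_unit X
  exact KFlat.Stalk.isPerfect_of_iso ((DCoh.Rpush f).mapIso (a ≪≫ b.app _ ≪≫ c.app _))
    (RelTensor.isPerfect_rpush_ltensorMod f hG hflat hsupp (PnD.isPerfect_one X))

/-- Cohomology of a perfect object of `D(R)` over a coherent ring. -/
theorem fp_homology_of_isPerfect {R : Type u} [CommRing R]
    (hR : ∀ I : Ideal R, I.FG → Module.FinitePresentation R I) {M : Dual.D R} (hM : DRing.IsPerfect R M)
    (i : ℤ) : Module.FinitePresentation R (Dual.HD R M i) :=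
  (H4DR.PCoh.finite_fp_of_pc hR (H4DR.PCoh.pc_of_pc' (H4DR.TorAmp.isPerfect_iff.1 hM).1 (i - 1))).2 i (by omega)

variable {R : Type u} [CommRing R] (X : Scheme.{u}) [X.Over (Spec (CommRingCat.of R))] (F : X.Modules)
  [F.IsQuasicoherent]

attribute [local instance 10000] H10Coh.hasSheafifyAb H10Coh.hasWeakSheafifyAb H10Coh.hasExtAb H10Coh.enoughInjAb

set_option maxRecDepth 4000 in
/-- `H^p(X, F) ≅ N` when `R^p f_* F ≅ N~`. -/
theorem nonempty_HH_linearEquiv [QuasiCompact (X ↘ Spec (CommRingCat.of R))]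
    [QuasiSeparated (X ↘ Spec (CommRingCat.of R))] [HasInjectiveResolutions X.Modules] (p : ℕ)
    (N : ModuleCat.{u} R)
    (u : (Coh.Rpush (X ↘ Spec (CommRingCat.of R)) p).obj F ≅ tilde (R := CommRingCat.of R) N) :
    Nonempty (Coh.HH X F p ≃ₗ[R] N) := by
  let f := X ↘ Spec (CommRingCat.of R)
  let B := Γ(Spec (CommRingCat.of R), ⊤)
  let hV := isAffineOpen_top (Spec (CommRingCat.of R))
  letI := LeadBC.preOver f hV
  letI : Algebra R B := (Scheme.ΓSpecIso (CommRingCat.of R)).inv.hom.toAlgebra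
  have hbij : Function.Bijective (algebraMap R B) :=
    ConcreteCategory.bijective_of_isIso (Scheme.ΓSpecIso (CommRingCat.of R)).inv
  let eB : R ≃ₗ[R] B := LinearEquiv.ofBijective (Algebra.linearMap R B) hbij
  haveI : Module.Flat R B := Module.Flat.of_linearEquiv eB.symm
  haveI : CompactSpace X := QuasiCompact.compactSpace_of_compactSpace f
  haveI : QuasiSeparatedSpace X := quasiSeparatedSpace_of_quasiSeparated f
  have hsq : IsPullback (f ⁻¹ᵁ ⊤).ι ((f ⁻¹ᵁ ⊤).toScheme ↘ Spec (CommRingCat.of B)) f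
      (Spec.map (CommRingCat.ofHom (algebraMap R B))) := by
    have h := LeadBC.GenBC.isPullback_preOver f hV
    rw [IsAffineOpen.fromSpec_top, Scheme.isoSpec_Spec_inv] at h
    exact h
  obtain ⟨e₁⟩ := H10Coh.FBC.nonempty_flat_base_change (A := R) (B := B) (q := (f ⁻¹ᵁ ⊤).ι) F hsq p
  obtain ⟨e₂, he₂⟩ := LeadBC.exists_rpushEquiv f hV F p
  let e₃ : Coh.HH (f ⁻¹ᵁ ⊤).toScheme ((Scheme.Modules.pullback (f ⁻¹ᵁ ⊤).ι).obj F) p ≃ₗ[B]
      Coh.HH (f ⁻¹ᵁ ⊤).toScheme (F.restrict (f ⁻¹ᵁ ⊤).ι) p :=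
    ((LeadBC.HMod B p).mapIso ((Scheme.Modules.restrictFunctorIsoPullback (f ⁻¹ᵁ ⊤).ι).app F).symm).toLinearEquiv
  let e : B ⊗[R] Coh.HH X F p ≃ₗ[B] Γ((Coh.Rpush f p).obj F, ⊤) := e₁ ≪≫ₗ e₃ ≪≫ₗ { e₂ with map_smul' := he₂ }
  have hb : Function.Bijective fun m : N => KFlat.TildeStalk.top (R := CommRingCat.of R) N m :=
    haveI := tilde.isIso_toOpen_top (R := CommRingCat.of R) (M := N)
    ConcreteCategory.bijective_of_isIso (tilde.toOpen (R := CommRingCat.of R) N ⊤)
  let e' : Coh.HH X F p ≃ₗ[R] B ⊗[R] Coh.HH X F p :=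
    (TensorProduct.lid R (Coh.HH X F p)).symm ≪≫ₗ TensorProduct.congr eB (LinearEquiv.refl R _)
  let tu : Γ((Coh.Rpush f p).obj F, ⊤) ≃+ Γ(tilde (R := CommRingCat.of R) N, ⊤) :=
    { toFun := fun x => u.hom.app ⊤ x
      invFun := fun y => u.inv.app ⊤ y
      left_inv := fun x => congr($(congr(Scheme.Modules.Hom.app $(u.hom_inv_id) ⊤)) x)
      right_inv := fun y => congr($(congr(Scheme.Modules.Hom.app $(u.inv_hom_id) ⊤)) y)
      map_add' := fun x y => map_add _ _ _ }
  let T : N ≃+ Γ(tilde (R := CommRingCat.of R) N, ⊤) :=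
    { Equiv.ofBijective _ hb with map_add' := KFlat.TildeStalk.top_add (R := CommRingCat.of R) N }
  let ψ : Coh.HH X F p ≃+ N := ((e'.toAddEquiv.trans e.toAddEquiv).trans tu).trans T.symm
  refine ⟨ψ.toLinearEquiv fun a x => T.injective ?_⟩
  have h1 : T (ψ (a • x)) = u.hom.app ⊤ (e (e' (a • x))) := T.apply_symm_apply _
  have h2 : T (ψ x) = u.hom.app ⊤ (e (e' x)) := T.apply_symm_apply _
  have h3 : T (a • ψ x) = (algebraMap R B a) • T (ψ x) :=
    KFlat.TildeStalk.top_smul (R := CommRingCat.of R) N a (ψ x)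
  rw [h1, h3, h2, map_smul, ← algebraMap_smul B a (e' x), map_smul, Scheme.Modules.Hom.app_smul]

/-- The headline. -/
theorem fp_HH (hR : ∀ I : Ideal R, I.FG → Module.FinitePresentation R I)
    [QuasiCompact (X ↘ Spec (CommRingCat.of R))] [QuasiSeparated (X ↘ Spec (CommRingCat.of R))]
    [LocallyOfFinitePresentation (X ↘ Spec (CommRingCat.of R))]
    (G : X.Modules) (hG : CohB1.IsFP G) (hflat : FlatMod.IsFlatOver (X ↘ Spec (CommRingCat.of R)) G)
    (hsupp : ClSub.IsProperOver (X ↘ Spec (CommRingCat.of R)) (CohB1.support G)) (i : ℕ) :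
    Module.FinitePresentation R (Coh.HH X G i) := by
  let f := X ↘ Spec (CommRingCat.of R)
  haveI : DCoh.HasRpush f := QCohD.hasRpush f
  haveI : HasInjectiveResolutions X.Modules := QCohD.hasInjectiveResolutions_modules
  haveI : G.IsQuasicoherent := H29Fitt.isQCoh_of_isFP G hG
  haveI : PreservesFiniteLimits (tilde.functor (CommRingCat.of R)) := inferInstance
  have hP := isPerfect_rpush_single f hG hflat hsupp
  obtain ⟨M, ⟨eM⟩⟩ := (QCohD.isQCohD_iff (CommRingCat.of R) _).1 (Dual.isQCohD_of_isPerfect hP)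
  have hM : DRing.IsPerfect R M := (perfect_tilde_iff M).1 (KFlat.Stalk.isPerfect_of_iso eM.symm hP)
  haveI : Module.FinitePresentation R (hA M (i : ℤ)) := fp_homology_of_isPerfect hR hM i
  obtain ⟨er⟩ := QCohD.nonempty_hd_rpush_single f G i
  obtain ⟨e⟩ := nonempty_HH_linearEquiv X G i (hA M (i : ℤ))
    (er.symm ≪≫ (DerivedCategory.homologyFunctor _ (i : ℤ)).mapIso eM.symm ≪≫ hdTilde M (i : ℤ))
  exact Module.FinitePresentation.of_equiv e.symm

end Groth.Agent.H7CohFP
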